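import Cfsg.Agent.Co3TwoM12.Cert.Bound
import Cfsg.Agent.Co3TwoM12.Data.CoWords

/-!
The third Conway group satisfies the relations of the first certificate, and is generated by the
centraliser with any interchanging involution.
-/

set_option autoImplicit false
set_option maxRecDepth 100000

namespace Cfsg.Agent.Co3TwoM12.Cert

open Cfsg Cfsg.Agent.Compute Cfsg.Agent.StemCert
open Cfsg.Agent.Co3Rec (R Ctx ltB ltB_iff)

/-- The interchanging involution of the model. -/
noncomputable def xE : R := ctx.gen 9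

/-- The relators of the first certificate. -/
def relsA : List (ℕ × ℕ) := [(3, 1), (4, 1)]

theorem x_ok : same [9, 9] [] = true ∧
    allBelow 384 (fun i => same (9 :: dW i ++ [9]) (dW (aMap 2 i))) = true ∧
    relsA.all (fun e => same (9 :: (rG e.1 ++ 9 :: (rH e.1 ++ [9]))) (tlW e.1 e.2)) = true ∧
    relsOK relsA = true := by decide +kernel

theorem xE_sq : xE * xE = 1 := by
  have h := eq_of_same x_ok.1
  simpa [Ctx.ev_cons, xE] using h

theorem rel_R : Rel CBs.subtype xE 2 relsA := by
  refine ⟨xE_sq, fun i hi => ?_, fun e he => ?_⟩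
  · have h := eq_of_same (allBelow_eq_true.mp x_ok.2.1 i hi)
    rw [Ctx.ev_append, Ctx.ev_cons, ctx.ev_single] at h
    rw [Subgroup.coe_subtype, dC_coe hi, dC_coe (aMap_lt (by norm_num) hi).1,
      inv_eq_of_mul_eq_one_right xE_sq]
    exact h
  · have hb := List.all_eq_true.mp x_ok.2.2.2 e he
    simp only [Bool.and_eq_true, Nat.blt_eq] at hb
    obtain ⟨hg, hh, hy⟩ := rG_lt hb.1
    have h := eq_of_same (List.all_eq_true.mp x_ok.2.2.1 e he)
    simp only [Ctx.ev_cons, Ctx.ev_append, Ctx.ev_nil, mul_one] at h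
    rw [triV, Subgroup.coe_subtype, wC_coe hg, wC_coe hh, Subgroup.coe_mul, wC_coe hy, dC_coe hb.2]
    exact h

theorem co_words_ok : allBelow 2 (fun g => ltB 10 (Data.coWords.getD g []) &&
    allB (fun x => Nat.beq (appW 9 Data.codes (Data.coWords.getD g []) x)
      (getField 9 (Co3Out.Data.codes.getD g 0) x)) Co3Out.Data.mainBase) = true := by decide +kernel

theorem letters_CB : ∀ s < 9, ctx.gen s ∈ CBs := fun s hs =>
  Subgroup.mem_centralizer_singleton_iff.mpr (by
    have := ev_comm_b (l := [s]) (by simpa using hs)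
    rwa [ctx.ev_single] at this)

/-- The centraliser and the involution generate. -/
theorem generated_xE : Subgroup.closure ((CBs : Set R) ∪ {xE}) = ⊤ := by
  rw [eq_top_iff, ← Co3Out.generated, Subgroup.closure_le]
  have key : ∀ g < 2, Co3Out.gen g ∈ Subgroup.closure ((CBs : Set R) ∪ {xE}) := by
    intro g hg
    have h := allBelow_eq_true.mp co_words_ok g hg
    simp only [Bool.and_eq_true] at h
    have hlet : ∀ s ∈ Data.coWords.getD g [], s < ctx.k ∧
        ctx.gen s ∈ Subgroup.closure ((CBs : Set R) ∪ {xE}) := fun s hs => by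
      have hs' := ltB_iff.mp h.1 s hs
      refine ⟨lt_of_lt_of_le hs' (show 10 ≤ Data.k by decide +kernel), ?_⟩
      rcases Nat.lt_or_eq_of_le (Nat.lt_succ_iff.mp hs') with h9 | h9
      · exact Subgroup.subset_closure (Or.inl (letters_CB s h9))
      · exact Subgroup.subset_closure (Or.inr (by subst h9; rfl))
    have e : Co3Out.gen g = ctx.ev (Data.coWords.getD g []) := by
      refine (inv_mul_eq_one.mp (Co3Out.base_isBase.2 _ fun x hx => ?_))
      have h1 : Co3Out.ι (ctx.ev (Data.coWords.getD g [])) x = Co3Out.ι (Co3Out.gen g) x := Fin.ext (by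
        rw [show ctx.ev (Data.coWords.getD g []) = evalW ctx.gen (Data.coWords.getD g []) from rfl,
          appW_spec ctx.coded _ (fun y hy => (hlet y hy).1),
          Co3Out.coded g (lt_of_lt_of_le hg (by decide +kernel)) x]
        exact Nat.eq_of_beq_eq_true (allB_spec h.2 _ hx))
      rw [map_mul, map_inv, Equiv.Perm.mul_apply, h1]
      exact Equiv.symm_apply_apply _ _
    rw [e]
    exact list_prod_mem fun y hy => by
      obtain ⟨x, hx, rfl⟩ := List.mem_map.mp hy
      exact (hlet x hx).2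
  rintro x (rfl | rfl)
  exacts [key 0 (by norm_num), key 1 (by norm_num)]

/-- The centraliser and any element interchanging the involution with a product by a conjugate of
the second involution generate. -/
theorem generated_of_swap {c w : R} (hc : c * Co3Rec.bE = Co3Rec.bE * c)
    (h : w * Co3Rec.bE * w⁻¹ = Co3Rec.bE * (c * Co3Rec.tE * c⁻¹)) :
    Subgroup.closure ((CBs : Set R) ∪ {w}) = ⊤ := by
  have hx : xE * Co3Rec.bE * xE⁻¹ = Co3Rec.bE * Co3Rec.tE := by
    have e := rel_R.conj 1 (by norm_num)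
    have h17 : aMap 2 1 = 7 := by decide +kernel
    rw [h17, Subgroup.coe_subtype, dC_coe (by norm_num), dC_coe (by norm_num), dEl_one, dEl_seven] at e
    exact e
  have hd : (xE⁻¹ * c⁻¹ * w) * Co3Rec.bE = Co3Rec.bE * (xE⁻¹ * c⁻¹ * w) := by
    calc xE⁻¹ * c⁻¹ * w * Co3Rec.bE = xE⁻¹ * c⁻¹ * (w * Co3Rec.bE * w⁻¹) * w := by group
      _ = xE⁻¹ * c⁻¹ * (Co3Rec.bE * c) * Co3Rec.tE * c⁻¹ * w := by rw [h]; group
      _ = xE⁻¹ * c⁻¹ * (c * Co3Rec.bE) * Co3Rec.tE * c⁻¹ * w := by rw [hc]
      _ = xE⁻¹ * (Co3Rec.bE * Co3Rec.tE) * c⁻¹ * w := by group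
      _ = _ := by rw [← hx]; group
  rw [eq_top_iff, ← generated_xE, Subgroup.closure_le]
  rintro y (hy | rfl)
  · exact Subgroup.subset_closure (Or.inl hy)
  · have hcm : c ∈ Subgroup.closure ((CBs : Set R) ∪ {w}) :=
      Subgroup.subset_closure (Or.inl (Subgroup.mem_centralizer_singleton_iff.mpr hc))
    have hdm : xE⁻¹ * c⁻¹ * w ∈ Subgroup.closure ((CBs : Set R) ∪ {w}) :=
      Subgroup.subset_closure (Or.inl (Subgroup.mem_centralizer_singleton_iff.mpr hd))
    rw [show xE = c⁻¹ * w * (xE⁻¹ * c⁻¹ * w)⁻¹ by group]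
    exact mul_mem (mul_mem (inv_mem hcm) (Subgroup.subset_closure (Or.inr rfl))) (inv_mem hdm)

end Cfsg.Agent.Co3TwoM12.Cert
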