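import Cfsg.Agent.Co3TwoM12.Cert.Model

/-!
The order bound given by a complete certificate, and the isomorphism onto a group generated by the
same data.
-/

set_option autoImplicit false
set_option maxRecDepth 100000

namespace Cfsg.Agent.Co3TwoM12.Cert

open Cfsg Cfsg.Agent.Compute Cfsg.Agent.StemCert
open Cfsg.Agent.Co3Rec (R)
open Cfsg.Agent.DCoset (Steps Cover)

theorem gen_top : Subgroup.closure {q | ∃ g, g < P.nL ∧ q = P.q g} = ⊤ := by
  apply Subgroup.map_injective CBs.subtype_injective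
  rw [MonoidHom.map_closure, ← MonoidHom.range_eq_map, Subgroup.range_subtype]
  refine le_antisymm ((Subgroup.closure_le _).mpr ?_) ?_
  · rintro _ ⟨q, -, rfl⟩
    exact q.2
  · show CB ≤ _
    rw [CB_eq_closure]
    refine Subgroup.closure_mono ?_
    rintro _ (rfl | rfl)
    · exact ⟨cq 6, ⟨6, show 6 < 9 by norm_num, rfl⟩, cq_coe (by norm_num)⟩
    · exact ⟨cq 7, ⟨7, show 7 < 9 by norm_num, rfl⟩, cq_coe (by norm_num)⟩

variable {H : Type*} [Group H] {Φ : CBs →* H} {x : H} {k : ℕ} {rels : List (ℕ × ℕ)}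

/-- The bound on the group generated. -/
theorem Rel.card_le [Finite H] (h : Rel Φ x k rels) (hk : k < 4) (hok : relsOK rels = true)
    (hgen : Subgroup.closure (Set.range Φ ∪ {x}) = ⊤) (D : Steps) (C : Cover)
    (hchk : ∀ s, s < D.len → Steps.check D (rules k rels) tab s = true)
    (hsrc : ∀ j, 1 ≤ j → j < D.nNode → D.nodeSrc j < j)
    (hv : C.Valid D (rules k rels) tab 190080) {N : ℕ}
    (hsum : ((List.range C.nLive).map C.idx).sum = N) : Nat.card H ≤ 190080 * N := by
  have hgenG : Subgroup.closure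
      (Set.range Φ ∪ {y | ∃ t, t < (rules k rels).nT ∧ y = Tfun x t}) = ⊤ := by
    rw [eq_top_iff, ← hgen]
    refine Subgroup.closure_mono (Set.union_subset_union_right _ ?_)
    rintro y rfl
    exact ⟨1, show 1 < 2 by norm_num, by simp [Tfun]⟩
  have hF := DCoset.Steps.holds (D := D) (Hs := Φ.range) (h.sound hk hok) (fun g _ => ⟨P.q g, rfl⟩)
    hsrc (show 0 < 2 by norm_num) hchk
  obtain ⟨-, hle⟩ := DCoset.Cover.index_le (C := C) (P := P) Φ (Tfun x) (NQ := 190080) card_CB.le
    gen_top hgenG (h.sound hk hok) hv hF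
  rw [hsum] at hle
  have h1 : Nat.card Φ.range ≤ 190080 :=
    (Nat.card_le_card_of_surjective _ (MonoidHom.rangeRestrict_surjective Φ)).trans card_CB.le
  rw [← Subgroup.card_mul_index Φ.range]
  exact Nat.mul_le_mul h1 hle

/-- What is generated is the group generated by a second solution of the bounded order. -/
theorem Rel.exists_iso [Finite H] (h : Rel Φ x k rels) (hk : k < 4) (hok : relsOK rels = true)
    (D : Steps) (C : Cover) (hchk : ∀ s, s < D.len → Steps.check D (rules k rels) tab s = true)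
    (hsrc : ∀ j, 1 ≤ j → j < D.nNode → D.nodeSrc j < j)
    (hv : C.Valid D (rules k rels) tab 190080)
    (hsum : ((List.range C.nLive).map C.idx).sum = 2608200)
    {j : CBs →* R} {xR : R} (hR : Rel j xR k rels)
    (hgen : Subgroup.closure (Set.range j ∪ {xR}) = ⊤) (hne : ∃ c, Φ c ≠ 1) :
    ∃ θ : R →* H, Function.Injective θ ∧ (∀ c : CBs, θ (j c) = Φ c) ∧ θ xR = x := by
  classical
  let Ψ : CBs →* H × R := Φ.prod j
  let Δ : Subgroup (H × R) := Subgroup.closure (Set.range Ψ ∪ {(x, xR)})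
  have hΨ : ∀ c, Ψ c ∈ Δ := fun c => Subgroup.subset_closure (Or.inl ⟨c, rfl⟩)
  let Ψ' : CBs →* Δ := Ψ.codRestrict Δ hΨ
  let s' : Δ := ⟨(x, xR), Subgroup.subset_closure (Or.inr rfl)⟩
  have hrel : Rel Ψ' s' k rels := by
    refine ⟨Subtype.ext (Prod.ext h.sq hR.sq), fun i hi => Subtype.ext (Prod.ext ?_ ?_),
      fun e he => Subtype.ext (Prod.ext ?_ ?_)⟩
    · exact h.conj i hi
    · exact hR.conj i hi
    · exact h.rel e he
    · exact hR.rel e he
  have hgen' : Subgroup.closure (Set.range Ψ' ∪ {s'}) = ⊤ := by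
    apply Subgroup.map_injective Δ.subtype_injective
    rw [MonoidHom.map_closure, ← MonoidHom.range_eq_map, Subgroup.range_subtype, Set.image_union,
      Set.image_singleton, ← Set.range_comp]
    rfl
  have hle := hrel.card_le hk hok hgen' D C hchk hsrc hv hsum
  let π₂ : Δ →* R := (MonoidHom.snd H R).comp Δ.subtype
  have h2s : Function.Surjective π₂ := by
    rw [← MonoidHom.range_eq_top, eq_top_iff, ← hgen, Subgroup.closure_le]
    rintro y (⟨c, rfl⟩ | rfl)
    · exact ⟨Ψ' c, rfl⟩
    · exact ⟨s', rfl⟩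
  have hb : Function.Bijective π₂ := by
    refine (Nat.bijective_iff_surjective_and_card _).mpr ⟨h2s, ?_⟩
    have h3 := Nat.card_le_card_of_surjective _ h2s
    have h4 := Co3Out.card_co3
    change Nat.card R = _ at h4
    omega
  let e : Δ ≃* R := MulEquiv.ofBijective π₂ hb
  let θ : R →* H := ((MonoidHom.fst H R).comp Δ.subtype).comp e.symm.toMonoidHom
  have hc : ∀ c : CBs, θ (j c) = Φ c := fun c => by
    show (e.symm (j c)).1.1 = _
    rw [show e.symm (j c) = Ψ' c from e.symm_apply_eq.mpr rfl]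
    rfl
  refine ⟨θ, ?_, hc, ?_⟩
  · refine (MonoidHom.ker_eq_bot_iff θ).mp ((θ.normal_ker.eq_bot_or_eq_top).resolve_right fun htop => ?_)
    obtain ⟨c, hc'⟩ := hne
    exact hc' (by rw [← hc]; exact MonoidHom.mem_ker.mp (htop ▸ Subgroup.mem_top _))
  · show (e.symm xR).1.1 = _
    rw [show e.symm xR = s' from e.symm_apply_eq.mpr rfl]

end Cfsg.Agent.Co3TwoM12.Cert
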