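import Cfsg.Agent.Co3TwoM12.Relators
import Cfsg.Agent.Co3TwoM12.Cent
import Cfsg.Agent.DCoset.PermModel
import Cfsg.Agent.DCoset.Emit

/-!
The permutation model of the centraliser for double coset derivations, and the rules and relators
of an interchanging involution.
-/

set_option autoImplicit false
set_option maxRecDepth 100000

namespace Cfsg.Agent.Co3TwoM12.Cert

open Cfsg Cfsg.Agent.Compute Cfsg.Agent.StemCert
open Cfsg.Agent.Co3Rec (R Ctx ltB ltB_iff)
open Cfsg.Agent.CosetCert (allFrom)
open Cfsg.Agent.DCoset (Tab Rules Steps QModel Acts pk16 val valW lettersBelow wLen wBody allFrom_all)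

/-- The codes of the inverse letters. -/
noncomputable def rcode (g : ℕ) : ℕ := Data.codes.getD (Data.ivs.getD g 0) 0

/-- The table of the nine letters. -/
noncomputable def tab : Tab where
  k := 7
  nL := 9
  act g p := getField 9 (rcode g) p
  base := pk16 7 fun l => Co3Out.Data.mainBase.getD l 0

/-- A letter as an element of the centraliser. -/
noncomputable def cq (g : ℕ) : CBs :=
  if h : g < 9 then ⟨ctx.gen g, Subgroup.mem_centralizer_singleton_iff.mpr (by
    have := ev_comm_b (l := [g]) (by simpa using h)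
    rwa [ctx.ev_single] at this)⟩ else 1

theorem cq_coe {g : ℕ} (h : g < 9) : (cq g : R) = ctx.gen g := by rw [cq, dif_pos h]

/-- The action on the points. -/
noncomputable def ρ : CBs →* Equiv.Perm (Fin 276) := Co3Out.ι.comp CBs.subtype

/-- The base. -/
noncomputable def bp (l : ℕ) : Fin 276 :=
  if h : Co3Out.Data.mainBase.getD l 0 < 276 then ⟨_, h⟩ else 0

theorem nine_le : 9 ≤ Data.k := by decide +kernel

theorem base_lt : allBelow 7 (fun l => Nat.blt (Co3Out.Data.mainBase.getD l 0) 276) = true := by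
  decide +kernel

theorem acts : Acts ρ tab cq bp where
  small := by norm_num
  act_eq := by
    intro g hg p
    have hg' : g < 9 := hg
    have hk : g < Data.k := lt_of_lt_of_le hg' nine_le
    show getField 9 (ctx.cs.getD (ctx.iv.getD g 0) 0) p = _
    rw [← ctx.coded _ (ctx.iv_spec hk) p]
    show ((Co3Out.ι (ctx.gen (Data.ivs.getD g 0)) p : Fin 276) : ℕ) = _
    rw [gen_inv hk, map_inv, ← cq_coe hg']
    rfl
  act_lt g p := lt_of_lt_of_le (getField_lt 9 (rcode g) p) (by norm_num)
  base_eq := by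
    refine DCoset.pk16_congr _ fun l hl => ?_
    rw [bp, dif_pos (Nat.blt_eq.mp (allBelow_eq_true.mp base_lt l hl))]

/-- The model. -/
noncomputable def P : QModel CBs :=
  acts.toQModel fun a ha => Subtype.ext (Co3Out.base_isBase.2 _ fun x hx => by
    obtain ⟨l, hl, e⟩ := List.getElem_of_mem hx
    have hl7 : l < 7 := by
      have : Co3Out.Data.mainBase.length = 7 := by decide +kernel
      omega
    have h := ha l hl7
    have e' : bp l = x := Fin.ext (by
      rw [bp, dif_pos (Nat.blt_eq.mp (allBelow_eq_true.mp base_lt l hl7))]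
      show Co3Out.Data.mainBase.getD l 0 = _
      rw [List.getD_eq_getElem _ _ hl, e])
    rw [e', Equiv.Perm.inv_eq_iff_eq] at h
    exact h.symm)

theorem P_q : P.q = cq := rfl

/-- A packed word. -/
noncomputable def pw (l : List ℕ) : ℕ :=
  Nat.add (List.length l) (Nat.mul 65536 (List.rec (motive := fun _ => ℕ) 0 (fun s _ r => Nat.add s (Nat.mul 256 r)) l))

theorem val_pw {M : Type*} [Monoid M] (lv : ℕ → M) (l : List ℕ) (h : ∀ s ∈ l, s < 256)
    (hl : l.length < 65536) : val lv (pw l) = (l.map lv).prod := by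
  set b : List ℕ → ℕ := fun l => List.rec (motive := fun _ => ℕ) 0 (fun s _ r => Nat.add s (Nat.mul 256 r)) l
  have key : ∀ l : List ℕ, (∀ s ∈ l, s < 256) → valW lv l.length (b l) = (l.map lv).prod := by
    intro l
    induction l with
    | nil => intro _; rfl
    | cons s l ih =>
      intro h
      have hs := h s (by simp)
      show lv (b (s :: l) % 256) * valW lv l.length (b (s :: l) / 256) = _
      rw [show b (s :: l) = s + 256 * b l from rfl, Nat.add_mul_mod_self_left, Nat.mod_eq_of_lt hs,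
        Nat.add_mul_div_left _ _ (by norm_num : 0 < 256), Nat.div_eq_of_lt hs, Nat.zero_add,
        ih fun r hr => h r (List.mem_cons_of_mem _ hr)]
      rfl
  show valW lv ((l.length + 65536 * b l) % 65536) ((l.length + 65536 * b l) / 65536) = _
  rw [Nat.add_mul_mod_self_left, Nat.mod_eq_of_lt hl, Nat.add_mul_div_left _ _ (by norm_num : 0 < 65536),
    Nat.div_eq_of_lt hl, Nat.zero_add, key l h]

theorem okWord_pw {l : List ℕ} (h : ∀ s ∈ l, s < 9) (hl : l.length < 65536) :
    tab.okWord (pw l) = true := by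
  set b : List ℕ → ℕ := fun l => List.rec (motive := fun _ => ℕ) 0 (fun s _ r => Nat.add s (Nat.mul 256 r)) l
  have key : ∀ l : List ℕ, (∀ s ∈ l, s < 9) → lettersBelow 9 l.length (b l) = true := by
    intro l
    induction l with
    | nil => intro _; rfl
    | cons s l ih =>
      intro h
      have hs := h s (by simp)
      rw [List.length_cons, DCoset.lettersBelow_succ, show b (s :: l) = s + 256 * b l from rfl,
        Nat.add_mul_mod_self_left, Nat.mod_eq_of_lt (show s < 256 by omega),
        Nat.add_mul_div_left _ _ (by norm_num : 0 < 256), Nat.div_eq_of_lt (show s < 256 by omega),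
        Nat.zero_add, ih fun r hr => h r (List.mem_cons_of_mem _ hr), Nat.blt_eq.mpr hs]
      rfl
  show lettersBelow 9 ((l.length + 65536 * b l) % 65536) ((l.length + 65536 * b l) / 65536) = true
  rw [Nat.add_mul_mod_self_left, Nat.mod_eq_of_lt hl, Nat.add_mul_div_left _ _ (by norm_num : 0 < 65536),
    Nat.div_eq_of_lt hl, Nat.zero_add, key l h]

theorem el_pw {l : List ℕ} (h : ∀ s ∈ l, s < 9) (hl : l.length < 65536) :
    ((P.el (pw l) : CBs) : R) = ctx.ev l := by
  rw [QModel.el, P_q, val_pw _ _ (fun s hs => by have := h s hs; omega) hl, SubmonoidClass.coe_list_prod,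
    List.map_map]
  exact congrArg List.prod (List.map_congr_left fun s hs => cq_coe (h s hs))

/-- A relator: a case and a position in its list. -/
noncomputable abbrev relYd (c i : ℕ) : ℕ := (Data.relYs.getD c []).getD i 0

/-- The word of the value of a relator. -/
noncomputable abbrev tlW (c i : ℕ) : List ℕ := rY c ++ dW (relYd c i)

/-- The rules of an automorphism with some relators. -/
noncomputable def rules (k : ℕ) (rels : List (ℕ × ℕ)) : Rules where
  nT := 2
  invT τ := τ
  mulT a b := Nat.add (Nat.mod (Nat.add a b) 2) 1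
  nRule := 15
  rS r := cond (Nat.blt r 9) 0 1
  rD r := cond (Nat.blt r 9) 0 1
  rU r := pw [cond (Nat.blt r 9) r (Nat.sub r 9)]
  rV r := cond (Nat.blt r 9) (pw [r]) (pw (dW (aMap k (dLet (Nat.sub r 9)))))
  nRel := rels.length
  relHd _ := 1
  relLen _ := 2
  relW r m := cond (Nat.beq m 0) (pw (rG (rels.getD r (0, 0)).1)) (pw (rH (rels.getD r (0, 0)).1))
  relT _ _ := 1
  relTl r := pw (tlW (rels.getD r (0, 0)).1 (rels.getD r (0, 0)).2)

theorem len_ok : allBelow 384 (fun i => Nat.blt (dW i).length 65536) = true ∧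
    allBelow 6 (fun c => Nat.blt (rG c).length 65536 && Nat.blt (rH c).length 65536 &&
      Nat.blt (rY c).length 60000) = true ∧ allBelow 384 (fun i => Nat.blt (dW i).length 5000) = true := by
  decide +kernel

variable {H : Type*} [Group H] (Φ : CBs →* H) (x : H)

/-- The extra letters. -/
def Tfun (τ : ℕ) : H := if τ = 1 then x else 1

/-- The relations. -/
structure Rel (k : ℕ) (rels : List (ℕ × ℕ)) : Prop where
  sq : x * x = 1
  conj : ∀ i < 384, x * Φ (dC i) * x⁻¹ = Φ (dC (aMap k i))
  rel : ∀ e ∈ rels, triV Φ x e.1 = Φ (wC (rY e.1) * dC (relYd e.1 e.2))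

/-- Each relator is valid. -/
noncomputable def relsOK (rels : List (ℕ × ℕ)) : Bool :=
  rels.all fun e => Nat.blt e.1 6 && Nat.blt (relYd e.1 e.2) 384

variable {Φ x}

theorem rG_lt {c : ℕ} (hc : c < 6) : (∀ s ∈ rG c, s < 9) ∧ (∀ s ∈ rH c, s < 9) ∧ ∀ s ∈ rY c, s < 9 := by
  have h := allBelow_eq_true.mp rel_words_ok c hc
  simp only [Bool.and_eq_true] at h
  obtain ⟨⟨⟨⟨⟨⟨⟨⟨⟨-, hg⟩, hh⟩, hy⟩, -⟩, -⟩, -⟩, -⟩, -⟩, -⟩ := h
  exact ⟨ltB_iff.mp hg, ltB_iff.mp hh, ltB_iff.mp hy⟩

theorem Rel.sound {k : ℕ} {rels : List (ℕ × ℕ)} (h : Rel Φ x k rels) (hk : k < 4)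
    (hok : relsOK rels = true) : (rules k rels).Sound (P.toModel Φ) (Tfun x) := by
  have hn : (rules k rels).nT = 2 := rfl
  constructor
  · rfl
  · intro τ hτ
    rw [hn] at hτ ⊢
    refine ⟨hτ, ?_⟩
    show Tfun x τ * Tfun x τ = 1
    interval_cases τ <;> simp [Tfun, h.sq]
  · intro σ τ hσ hτ _
    rw [hn] at hσ hτ ⊢
    show (σ + τ) % 2 + 1 - 1 < 2 ∧ Tfun x σ * Tfun x τ = Tfun x ((σ + τ) % 2 + 1 - 1)
    interval_cases σ <;> interval_cases τ <;> simp [Tfun, h.sq]
  · intro r hr
    have hr' : r < 15 := hr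
    rw [hn]
    show cond (Nat.blt r 9) 0 1 < 2 ∧ cond (Nat.blt r 9) 0 1 < 2 ∧ tab.okWord _ = true ∧
      tab.okWord _ = true ∧ Tfun x (cond (Nat.blt r 9) 0 1) * val (P.toModel Φ).lv _ =
        val (P.toModel Φ).lv _ * Tfun x (cond (Nat.blt r 9) 0 1)
    rw [P.el_val, P.el_val, show (rules k rels).rU r = pw [cond (Nat.blt r 9) r (Nat.sub r 9)] from rfl,
      show (rules k rels).rV r =
        cond (Nat.blt r 9) (pw [r]) (pw (dW (aMap k (dLet (Nat.sub r 9))))) from rfl]
    by_cases h9 : r < 9
    · rw [show Nat.blt r 9 = true from Nat.blt_eq.mpr h9]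
      simp only [cond_true]
      have ho := okWord_pw (l := [r]) (by simpa using h9) (by simp)
      exact ⟨by norm_num, by norm_num, ho, ho, by simp [Tfun]⟩
    · rw [show Nat.blt r 9 = false by simpa [← Bool.not_eq_true] using Nat.le_of_not_lt h9]
      simp only [cond_false]
      obtain ⟨s, rfl⟩ : ∃ s, r = s + 9 := ⟨r - 9, by omega⟩
      have hs : s < 6 := by omega
      rw [show Nat.sub (s + 9) 9 = s from Nat.add_sub_cancel _ _]
      have hi := (aMap_lt hk (dEl_let hs).1).1
      have hlw : (dW (aMap k (dLet s))).length < 65536 :=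
        Nat.blt_eq.mp (allBelow_eq_true.mp len_ok.1 _ hi)
      have h6 : ∀ t ∈ dW (aMap k (dLet s)), t < 9 := fun t ht => by have := dW_lt hi t ht; omega
      refine ⟨by norm_num, by norm_num, okWord_pw (by simp; omega) (by simp), okWord_pw h6 hlw, ?_⟩
      have e1 : P.el (pw [s]) = dC (dLet s) := Subtype.ext (by
        rw [el_pw (by simp; omega) (by simp), ctx.ev_single, dC_coe (dEl_let hs).1, (dEl_let hs).2])
      have e2 : P.el (pw (dW (aMap k (dLet s)))) = dC (aMap k (dLet s)) := Subtype.ext (by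
        rw [el_pw h6 hlw, dC_coe hi]; rfl)
      simp only [Tfun, if_true]
      rw [e1, e2, ← h.conj _ (dEl_let hs).1]
      rw [inv_eq_of_mul_eq_one_right h.sq, ← mul_assoc, ← mul_assoc, h.sq, one_mul]
  · intro r hr
    have hr' : r < rels.length := hr
    have hmem : rels.getD r (0, 0) ∈ rels := by
      rw [List.getD_eq_getElem _ _ hr']; exact List.getElem_mem hr'
    set e := rels.getD r (0, 0) with he
    have hb := List.all_eq_true.mp hok e hmem
    simp only [Bool.and_eq_true, Nat.blt_eq] at hb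
    obtain ⟨hc, hd⟩ := hb
    obtain ⟨hg, hh, hy⟩ := rG_lt hc
    have hl := allBelow_eq_true.mp len_ok.2.1 _ hc
    simp only [Bool.and_eq_true, Nat.blt_eq] at hl
    obtain ⟨⟨lg, lh⟩, ly⟩ := hl
    have ld := Nat.blt_eq.mp (allBelow_eq_true.mp len_ok.2.2 _ hd)
    have ht : ∀ s ∈ tlW e.1 e.2, s < 9 := fun s hs => by
      rcases List.mem_append.mp hs with hs | hs
      · exact hy s hs
      · have := dW_lt hd s hs; omega
    have lt' : (tlW e.1 e.2).length < 65536 := by rw [List.length_append]; omega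
    rw [hn]
    refine ⟨by show 1 < 2; norm_num, okWord_pw ht lt', fun m hm => ⟨by show 1 < 2; norm_num, ?_⟩, ?_⟩
    · show tab.okWord (cond (Nat.beq m 0) (pw (rG e.1)) (pw (rH e.1))) = true
      cases Nat.beq m 0
      exacts [okWord_pw hh lh, okWord_pw hg lg]
    · show Tfun x 1 * ((List.range 2).map fun m => val (P.toModel Φ).lv
        (cond (Nat.beq m 0) (pw (rG e.1)) (pw (rH e.1))) * Tfun x 1).prod =
          val (P.toModel Φ).lv (pw (tlW e.1 e.2))
      simp only [List.range_succ, List.range_zero, List.map_append, List.map_cons, List.map_nil,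
        List.nil_append, List.cons_append, List.prod_cons, List.prod_nil, mul_one, P.el_val,
        show Nat.beq 0 0 = true from rfl, show Nat.beq 1 0 = false from rfl, cond_true, cond_false]
      have eg : P.el (pw (rG e.1)) = wC (rG e.1) := Subtype.ext (by rw [el_pw hg lg, wC_coe hg])
      have eh : P.el (pw (rH e.1)) = wC (rH e.1) := Subtype.ext (by rw [el_pw hh lh, wC_coe hh])
      have et : P.el (pw (tlW e.1 e.2)) = wC (rY e.1) * dC (relYd e.1 e.2) := Subtype.ext (by
        rw [el_pw ht lt', Ctx.ev_append, Subgroup.coe_mul, wC_coe hy, dC_coe hd]; rfl)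
      rw [eg, eh, et, ← h.rel e hmem]
      simp [Tfun, triV]

/-- A derivation of the interchanging involution in the centraliser refutes the relations. -/
theorem Rel.false_of_steps {k : ℕ} {rels : List (ℕ × ℕ)} (h : Rel Φ x k rels) (hk : k < 4)
    (hok : relsOK rels = true) (hinj : Function.Injective Φ) (D : Steps)
    (hchk : allFrom (Steps.check D (rules k rels) tab) 0 D.len = true)
    (hsrc : allFrom (fun j => Nat.beq j 0 || Nat.blt (D.nodeSrc j) j) 0 D.nNode = true)
    (hend : (Nat.blt 0 D.len && Nat.beq (D.fI (D.len - 1)) 0 && Nat.beq (D.fJ (D.len - 1)) 0 &&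
      Nat.beq (D.fT (D.len - 1)) 1 && Nat.beq (aMap k 1) 7) = true) : False := by
  simp only [Bool.and_eq_true, Nat.beq_eq, Nat.blt_eq] at hend
  obtain ⟨⟨⟨⟨hlen, hI⟩, hJ⟩, hT⟩, h17⟩ := hend
  have hF := DCoset.Steps.holds (D := D) (Hs := Φ.range) (h.sound hk hok) (fun g _ => ⟨P.q g, rfl⟩)
    (fun j hj hj' => by
      have := allFrom_all hsrc hj'
      simp only [Bool.or_eq_true, Nat.beq_eq, Nat.blt_eq] at this
      exact this.resolve_left (by omega))
    (by show 0 < 2; norm_num) (fun s hs => allFrom_all hchk hs) (D.len - 1) (by omega)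
  rw [DCoset.Steps.Holds, hI, hJ, hT] at hF
  obtain ⟨-, a, b, ⟨a', -, ha⟩, ⟨b', -, hb⟩, hmem⟩ := hF
  rw [DCoset.Steps.rep_zero, one_mul, inv_one, mul_one] at hmem
  have hx : x ∈ Φ.range := by
    have : Tfun x 1 ∈ Φ.range := by
      have h2 := mul_mem (mul_mem (inv_mem (⟨a', ha⟩ : a ∈ Φ.range)) hmem) (⟨b', hb⟩ : b ∈ Φ.range)
      simpa [mul_assoc] using h2
    simpa [Tfun] using this
  obtain ⟨c, hc⟩ := hx
  have e := h.conj 1 (by norm_num)
  rw [h17, ← hc, ← map_inv, ← map_mul, ← map_mul] at e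
  have e' := congrArg Subtype.val (hinj e)
  simp only [Subgroup.coe_mul, InvMemClass.coe_inv, dC_coe (show 1 < 384 by norm_num),
    dC_coe (show 7 < 384 by norm_num), dEl_one, dEl_seven] at e'
  rw [Subgroup.mem_centralizer_singleton_iff.mp c.2, mul_inv_cancel_right] at e'
  exact tE_ne.1 (by
    calc Co3Rec.tE = Co3Rec.bE * (Co3Rec.bE * Co3Rec.tE) := by rw [← mul_assoc, bE_sq, one_mul]
      _ = 1 := by rw [← e', bE_sq])

end Cfsg.Agent.Co3TwoM12.Cert
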